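import Mathlib

/-!
# Common zeros of two quadratic forms in at least five variables (Chevalley–Warning) (S3442 M9, helper357)
-/

set_option autoImplicit false

namespace Cfsg.Agent.H357.M9

open MvPolynomial Module

section

variable {K : Type*} [Field K] {M : Type*} [AddCommGroup M] [Module K M]

/-- the quadratic polynomial of a bilinear form -/
noncomputable def qpoly {σ : Type*} [Fintype σ] (b : σ → M) (B : M →ₗ[K] M →ₗ[K] K) : MvPolynomial σ K :=
  ∑ s, ∑ t, C (B (b s) (b t)) * (X s * X t)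

theorem eval_qpoly {σ : Type*} [Fintype σ] (b : σ → M) (B : M →ₗ[K] M →ₗ[K] K) (x : σ → K) :
    eval x (qpoly b B) = B (∑ s, x s • b s) (∑ s, x s • b s) := by
  rw [qpoly]
  simp only [map_sum, map_mul, eval_C, eval_X, map_smul, LinearMap.sum_apply, LinearMap.smul_apply, smul_eq_mul]
  rw [Finset.sum_comm]
  refine Finset.sum_congr rfl fun s _ => ?_
  rw [Finset.mul_sum]
  refine Finset.sum_congr rfl fun t _ => ?_
  ring

theorem totalDegree_qpoly {σ : Type*} [Fintype σ] (b : σ → M) (B : M →ₗ[K] M →ₗ[K] K) :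
    (qpoly b B).totalDegree ≤ 2 := by
  refine totalDegree_finsetSum_le fun s _ => totalDegree_finsetSum_le fun t _ => ?_
  refine (totalDegree_mul _ _).trans ?_
  rw [totalDegree_C, zero_add]
  refine (totalDegree_mul _ _).trans ?_
  have h1 : ∀ s : σ, (X s : MvPolynomial σ K).totalDegree ≤ 1 := fun s => by rw [totalDegree_X]
  have := h1 s
  have := h1 t
  omega

/-- **two quadratic forms in at least five variables have a common zero** -/
theorem exists_common_zero [Finite K] [FiniteDimensional K M] (h : 5 ≤ finrank K M) (B₁ B₂ : M →ₗ[K] M →ₗ[K] K) :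
    ∃ m : M, m ≠ 0 ∧ B₁ m m = 0 ∧ B₂ m m = 0 := by
  classical
  have := Fintype.ofFinite K
  obtain ⟨p, hp⟩ := CharP.exists K
  have hprime : p.Prime := (FiniteField.card K p).choose_spec.1
  let b := finBasis K M
  have h1 := char_dvd_card_solutions_of_add_lt p (f₁ := qpoly b B₁) (f₂ := qpoly b B₂) (by
    have h1 := totalDegree_qpoly (K := K) b B₁
    have h2 := totalDegree_qpoly (K := K) b B₂
    rw [Fintype.card_fin]
    omega)
  have h2 : 1 < Fintype.card { x : Fin (finrank K M) → K // eval x (qpoly b B₁) = 0 ∧ eval x (qpoly b B₂) = 0 } := by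
    refine lt_of_lt_of_le hprime.one_lt (Nat.le_of_dvd (Fintype.card_pos_iff.2 ⟨⟨0, ?_⟩⟩) h1)
    rw [eval_qpoly, eval_qpoly]
    simp
  obtain ⟨⟨x, hx⟩, hx0⟩ := Fintype.exists_ne_of_one_lt_card h2 ⟨0, by rw [eval_qpoly, eval_qpoly]; simp⟩
  refine ⟨∑ s, x s • b s, fun h0 => hx0 (Subtype.ext ?_), ?_, ?_⟩
  · funext s
    exact Fintype.linearIndependent_iff.1 b.linearIndependent x h0 s
  · rw [← eval_qpoly]; exact hx.1
  · rw [← eval_qpoly]; exact hx.2

end

end Cfsg.Agent.H357.M9
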