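import Cfsg.Agent.H357.M9.CW
import Cfsg.Agent.LieClassical.HermSiegel

/-!
# Directions (S3442 M9, helper357)
-/

set_option autoImplicit false
set_option linter.unusedSectionVars false

namespace Cfsg.Agent.H357.M9

open Cfsg Cfsg.Agent.LieClassical.HermBasic Cfsg.Agent.LieClassical.HermSiegel Matrix Module

universe v

variable {F : Type v} [Field F] [Fintype F] {q : ℕ}

theorem charP_q (hF : Fintype.card F = q ^ 2) (hq : q.Prime) : CharP F q := by
  obtain ⟨p, k, hp, hchar, hk, -⟩ := exists_prime_pow hF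
  have h1 : p = q := by
    have h2 : p ∣ q := by rw [hk]; exact dvd_pow_self p (by rintro rfl; rw [pow_zero] at hk; exact hq.one_lt.ne' hk)
    exact (Nat.prime_dvd_prime_iff_eq hp hq).1 h2
  rwa [h1] at hchar

/-- the trace form `Tr (h(u, x v))` as a bilinear form over the prime field -/
theorem exists_bilin (hF : Fintype.card F = q ^ 2) (hq : q.Prime) [Algebra (ZMod q) F] {n : ℕ} (δ : F) (g : SU n F q) :
    ∃ B : (Fin n → F) →ₗ[ZMod q] (Fin n → F) →ₗ[ZMod q] ZMod q, ∀ u v,
      algebraMap (ZMod q) F (B u v) = δ * hermForm n F q (act g u) v + (δ * hermForm n F q (act g u) v) ^ q := by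
  have := Fact.mk hq
  have := charP_q hF hq
  have hfr : finrank (ZMod q) F = 2 := by
    have h1 := Module.card_eq_pow_finrank (K := ZMod q) (V := F)
    rw [hF, ZMod.card] at h1
    exact (Nat.pow_right_injective hq.two_le h1).symm
  have htr : ∀ a : F, algebraMap (ZMod q) F (Algebra.trace (ZMod q) F a) = a + a ^ q := by
    intro a
    rw [FiniteField.algebraMap_trace_eq_sum_pow, hfr, Finset.sum_range_succ, Finset.sum_range_one, pow_zero, pow_one,
      pow_one, Nat.card_zmod]
  have hfin : ∀ c : ZMod q, (algebraMap (ZMod q) F c) ^ q = algebraMap (ZMod q) F c := by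
    intro c
    rw [← map_pow, ZMod.pow_card]
  refine ⟨LinearMap.mk₂ (ZMod q) (fun u v => Algebra.trace (ZMod q) F (δ * hermForm n F q (act g u) v)) ?_ ?_ ?_ ?_, ?_⟩
  · intro u u' v
    rw [act_add, herm_add_left, mul_add, map_add]
  · intro c u v
    rw [← algebraMap_smul F c u, act_smul, herm_smul_left, mul_left_comm, ← Algebra.smul_def, map_smul]
  · intro u v v'
    rw [herm_add_right hF, mul_add, map_add]
  · intro c u v
    rw [← algebraMap_smul F c v, herm_smul_right, hfin, mul_left_comm, ← Algebra.smul_def, map_smul]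
  · intro u v
    exact htr _

/-- **every direction occurs** -/
theorem exists_dir (hF : Fintype.card F = q ^ 2) (hq : q.Prime) {n : ℕ} (hn : 3 ≤ n) (x : SU n F q) (δ : F) :
    ∃ v : Fin n → F, v ≠ 0 ∧ hermForm n F q v v = 0 ∧
      δ * hermForm n F q (act x v) v + (δ * hermForm n F q (act x v) v) ^ q = 0 := by
  have := Fact.mk hq
  have := charP_q hF hq
  let alg : Algebra (ZMod q) F := ZMod.algebra F q
  obtain ⟨γ, hγ⟩ := exists_trace_ne hF
  obtain ⟨B₁, h1⟩ := exists_bilin hF hq (n := n) γ 1
  obtain ⟨B₂, h2⟩ := exists_bilin hF hq (n := n) δ x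
  have hfr : finrank (ZMod q) F = 2 := by
    have h1 := Module.card_eq_pow_finrank (K := ZMod q) (V := F)
    rw [hF, ZMod.card] at h1
    exact (Nat.pow_right_injective hq.two_le h1).symm
  obtain ⟨m, hm, h3, h4⟩ := exists_common_zero (K := ZMod q) (M := Fin n → F) (by
    rw [Module.finrank_pi_fintype, Finset.sum_const, hfr, Finset.card_univ, Fintype.card_fin, smul_eq_mul]
    omega) B₁ B₂
  refine ⟨m, hm, ?_, ?_⟩
  · have h5 := h1 m m
    rw [h3, map_zero, act_one, mul_pow, herm_self_pow hF, ← add_mul] at h5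
    exact (mul_eq_zero.1 h5.symm).resolve_left hγ
  · have h5 := h2 m m
    rw [h4, map_zero] at h5
    exact h5.symm

end Cfsg.Agent.H357.M9
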