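import Cfsg.Agent.H357.M9.Val

/-!
# Elements with an isotropic eigenvector: trace values (S3442 M9, helper357)
-/

set_option autoImplicit false
set_option linter.unusedSectionVars false

namespace Cfsg.Agent.H357.M9

open Cfsg Cfsg.Agent.LieClassical.HermBasic Cfsg.Agent.LieClassical.HermSiegel Cfsg.Agent.LieClassical.HermGen Matrix Module

universe v

variable {F : Type v} [Field F] [Fintype F] {q : ℕ} (hF : Fintype.card F = q ^ 2)

/-- the eigenspaces are at most one-dimensional -/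
def Reg (g : SU 3 F q) : Prop :=
  ∀ (θ : F) (u w : Fin 3 → F), act g u = θ • u → act g w = θ • w → u ≠ 0 → ∃ c : F, w = c • u

/-- the traces of `ζ` times a transvection -/
def JJ (q : ℕ) (α : F) : Prop := ∃ ζ : F, ζ * ζ ^ q = 1 ∧ ζ ≠ 1 ∧ α = 2 * ζ + (ζ ^ 2)⁻¹

include hF in
theorem cast_q : (q : F) = 0 := by
  have := FiniteField.cast_card_eq_zero F
  rw [hF, Nat.cast_pow] at this
  exact (pow_eq_zero_iff two_ne_zero).1 this

theorem act_pow_eig {g : SU 3 F q} {v : Fin 3 → F} {θ : F} (hg : act g v = θ • v) (n : ℕ) : act (g ^ n) v = θ ^ n • v := by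
  induction n with
  | zero => rw [pow_zero, act_one, pow_zero, one_smul]
  | succ n ih => rw [pow_succ, act_mul, hg, act_smul, ih, smul_smul, pow_succ, mul_comm]

theorem pow_succ_norm {θ : F} (h : θ * θ ^ q = 1) : θ ^ (q + 1) = 1 := by rw [pow_succ, mul_comm, h]

include hF in
/-- two elements agreeing on a frame -/
theorem Fr3.ext {v e f : Fin 3 → F} (h : Fr3 q v e f) {g g' : SU 3 F q} (h1 : act g v = act g' v) (h2 : act g e = act g' e)
    (h3 : act g f = act g' f) : g = g' := by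
  apply ext_act
  intro w
  rw [h.decomp hF w]
  simp only [act_add, act_smul, h1, h2, h3]

theorem Fr3.ne_zero {v e f : Fin 3 → F} (h : Fr3 q v e f) : v ≠ 0 := by
  rintro rfl
  have := h.vf
  rw [herm_zero_left] at this
  exact zero_ne_one this

theorem Fr3.e_ne {v e f : Fin 3 → F} (h : Fr3 q v e f) (c : F) : e ≠ c • v := by
  rintro h1
  have := h.ee
  rw [h1, herm_smul_left, ← h1, h.ve, mul_zero] at this
  exact zero_ne_one this

theorem Fr3.f_ne {v e f : Fin 3 → F} (h : Fr3 q v e f) (x c : F) : f + x • e ≠ c • v := by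
  rintro h1
  have h2 : hermForm 3 F q (f + x • e) v = 1 := by
    rw [herm_add_left, herm_smul_left, h.fv, h.ev, mul_zero, add_zero]
  rw [h1, herm_smul_left, h.vv, mul_zero] at h2
  exact zero_ne_one h2

include hF in
/-- the case `θ ∈ μ_{q+1}`, `θ ≠ 1` -/
theorem Fr3.case_b {v e f : Fin 3 → F} (h : Fr3 q v e f) {g : SU 3 F q} {θ a b c d t : F} (hv : act g v = θ • v)
    (he : act g e = d • v + c • e) (hf : act g f = b • v + a • e + t • f) (hθ : θ * θ ^ q = 1) (ht : t * θ ^ q = 1)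
    (hc : c * c ^ q = 1) (hcθ : c ≠ θ) :
    ∃ μ : Skew F q, g ^ (q + 1) = xs hF v h.vv μ ∧ (Reg g → (μ : F) ≠ 0) := by
  have hθq : θ ^ q ≠ 0 := by
    intro h0
    rw [h0, mul_zero] at hθ
    exact zero_ne_one hθ
  have hθ0 : θ ≠ 0 := by
    rintro rfl
    rw [zero_mul] at hθ
    exact zero_ne_one hθ
  obtain rfl : t = θ := mul_right_cancel₀ hθq (ht.trans hθ.symm)
  have hsub : c - t ≠ 0 := sub_ne_zero.2 hcθ
  have hsub' : t - c ≠ 0 := sub_ne_zero.2 (Ne.symm hcθ)
  set z := g ^ (q + 1) with hz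
  have hzv : act z v = v := by rw [hz, act_pow_eig hv, pow_succ_norm hθ, one_smul]
  -- `e`
  have hze : act z e = e := by
    set κ := d / (c - t) with hκ
    have h1 : act g (e + κ • v) = c • (e + κ • v) := by
      rw [act_add, act_smul, he, hv]
      have h2 : d = κ * (c - t) := by rw [hκ, div_mul_cancel₀ _ hsub]
      rw [h2]
      module
    have h2 := act_pow_eig h1 (q + 1)
    rw [pow_succ_norm hc, one_smul, ← hz, act_add, act_smul, hzv] at h2
    exact add_right_cancel h2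
  set x := a / (t - c) with hx
  set β := b + x * d with hβ
  set γ := t⁻¹ * β with hγ
  have hβγ : β = t * γ := by rw [hγ, mul_inv_cancel_left₀ hθ0]
  have h3 : act g (f + x • e) = t • (f + x • e) + (t * γ) • v := by
    rw [act_add, act_smul, hf, he]
    have h2 : a = x * (t - c) := by rw [hx, div_mul_cancel₀ _ hsub']
    rw [← hβγ, hβ, h2]
    module
  have h4 : ∀ n : ℕ, act (g ^ n) (f + x • e) = t ^ n • ((f + x • e) + (n * γ) • v) := by
    intro n
    induction n with
    | zero => rw [pow_zero, act_one, pow_zero, one_smul, Nat.cast_zero, zero_mul, zero_smul, add_zero]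
    | succ n ih =>
      rw [pow_succ', act_mul, ih, act_smul, act_add, h3, act_smul, hv, pow_succ, mul_smul (t ^ n) t]
      congr 1
      push_cast
      module
  have h5 : act z (f + x • e) = (f + x • e) + γ • v := by
    rw [hz, h4, pow_succ_norm hθ, one_smul, Nat.cast_add, cast_q hF, Nat.cast_one, zero_add, one_mul]
  have hzf : act z f = f + γ • v := by
    rw [act_add, act_smul, hze] at h5
    have h6 : act z f + x • e = (f + γ • v) + x • e := by rw [h5]; abel
    exact add_right_cancel h6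
  have hsk : γ + γ ^ q = 0 := by
    have h7 : hermForm 3 F q (act z f) (act z f) = 0 := by rw [herm_act, h.ff]
    rw [hzf] at h7
    simp only [herm_add_left, herm_add_right hF, herm_smul_left, herm_smul_right, h.ff, h.vf, h.fv, h.vv, mul_zero,
      mul_one, add_zero, zero_add] at h7
    rw [← h7, add_comm]
  refine ⟨⟨γ, hsk⟩, ?_, fun hreg h8 => ?_⟩
  · apply h.ext hF
    · rw [hzv, act_xs, h.vv, mul_zero, zero_smul, add_zero]
    · rw [hze, act_xs, h.ev, mul_zero, zero_smul, add_zero]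
    · rw [hzf, act_xs, h.fv, mul_one]
  · have h9 : γ = 0 := h8
    rw [h9, mul_zero, zero_smul, add_zero] at h3
    obtain ⟨c', hc'⟩ := hreg t v (f + x • e) hv h3 h.ne_zero
    exact h.f_ne x c' hc'

include hF in
/-- the case `θ = 1` -/
theorem Fr3.case_c {v e f : Fin 3 → F} (h : Fr3 q v e f) {g : SU 3 F q} {a b d : F} (hv : act g v = v)
    (he : act g e = d • v + e) (hf : act g f = b • v + a • e + f) :
    ∃ hs : IsSiegel q v (a • e) b, g = siegel hF v (a • e) b hs := by
  have h1 : d + a ^ q = 0 := by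
    have h2 : hermForm 3 F q (act g e) (act g f) = 0 := by rw [herm_act, h.ef]
    rw [he, hf] at h2
    simp only [herm_add_left, herm_add_right hF, herm_smul_left, herm_smul_right, h.ff, h.vf, h.fv, h.vv, h.ee, h.ev,
      h.ve, h.ef, h.fe, mul_zero, mul_one, add_zero, zero_add] at h2
    rw [← h2]
    ring
  have h2 : b + b ^ q + a * a ^ q = 0 := by
    have h2 : hermForm 3 F q (act g f) (act g f) = 0 := by rw [herm_act, h.ff]
    rw [hf] at h2
    simp only [herm_add_left, herm_add_right hF, herm_smul_left, herm_smul_right, h.ff, h.vf, h.fv, h.vv, h.ee, h.ev,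
      h.ve, h.ef, h.fe, mul_zero, mul_one, add_zero, zero_add] at h2
    rw [← h2]
    ring
  refine ⟨⟨h.vv, by rw [herm_smul_left, h.ev, mul_zero], by
    rw [herm_smul_left, herm_smul_right, h.ee, mul_one, ← h2]⟩, ?_⟩
  apply h.ext hF
  · rw [hv, act_siegel_self]
  · rw [he, act_siegel, h.ev, zero_smul, add_zero, mul_zero, zero_sub, herm_smul_right, h.ee, mul_one,
      eq_neg_of_add_eq_zero_left h1, add_comm]
  · rw [hf, act_siegel, h.fv, one_smul, herm_smul_right, h.fe, mul_zero, sub_zero, mul_one]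
    abel

/-! ### the polynomial -/

theorem cubic_root {θ c t α β : F} (h0 : θ * c * t = 1) (hα : α = θ + c + t) (hβ : β = θ * c + c * t + θ * t) {ζ : F}
    (hζ : ζ ^ 3 - α * ζ ^ 2 + β * ζ - 1 = 0) : ζ = θ ∨ ζ = c ∨ ζ = t := by
  have h1 : (ζ - θ) * ((ζ - c) * (ζ - t)) = 0 := by
    rw [← hζ, hα, hβ]
    linear_combination -h0
  rcases mul_eq_zero.1 h1 with h | h
  · exact Or.inl (sub_eq_zero.1 h)
  rcases mul_eq_zero.1 h with h | h
  · exact Or.inr (Or.inl (sub_eq_zero.1 h))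
  · exact Or.inr (Or.inr (sub_eq_zero.1 h))

theorem norm_sq {ζ : F} (h : ζ * ζ ^ q = 1) : ((ζ ^ 2)⁻¹) * ((ζ ^ 2)⁻¹) ^ q = 1 := by
  rw [inv_pow, ← mul_inv, ← pow_mul, mul_comm 2 q, pow_mul, ← mul_pow, h, one_pow, inv_one]

include hF in
/-- `ζ`, `ζ⁻²` are the roots of the polynomial with the trace `2 ζ + ζ⁻²` -/
theorem JJ_roots {ζ α : F} (hζ : ζ * ζ ^ q = 1) (hα : α = 2 * ζ + (ζ ^ 2)⁻¹) (x : F) :
    x ^ 3 - α * x ^ 2 + α ^ q * x - 1 = (x - ζ) * (x - ζ) * (x - (ζ ^ 2)⁻¹) := by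
  have hζ0 : ζ ≠ 0 := by
    rintro rfl
    rw [zero_mul] at hζ
    exact zero_ne_one hζ
  have h1 : ζ ^ q = ζ⁻¹ := eq_inv_of_mul_eq_one_left (by rw [mul_comm]; exact hζ)
  have h2 : (2 : F) ^ q = 2 := by
    have := add_pow_q hF (1 : F) 1
    rw [one_pow, one_add_one_eq_two] at this
    exact this
  have h3 : α ^ q = 2 * ζ⁻¹ + ζ ^ 2 := by
    rw [hα, add_pow_q hF, mul_pow, h2, h1, inv_pow, ← pow_mul, mul_comm 2 q, pow_mul, h1, inv_pow, inv_inv]
  rw [h3, hα]
  field_simp
  ring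

include hF in
theorem pow_sum {θ c t : F} (ht : t * θ ^ q = 1) (hc : c * c ^ q = 1) (h0 : θ * c * t = 1) :
    (θ + c + t) ^ q = θ * c + c * t + θ * t := by
  have hθ0 : θ ≠ 0 := by rintro rfl; rw [zero_mul, zero_mul] at h0; exact zero_ne_one h0
  have hc0 : c ≠ 0 := by rintro rfl; rw [mul_zero, zero_mul] at h0; exact zero_ne_one h0
  have ht0 : t ≠ 0 := by rintro rfl; rw [mul_zero] at h0; exact zero_ne_one h0
  have h1 : θ ^ q = t⁻¹ := eq_inv_of_mul_eq_one_left (by rw [mul_comm]; exact ht)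
  have h2 : c ^ q = c⁻¹ := eq_inv_of_mul_eq_one_left (by rw [mul_comm]; exact hc)
  have h3 : t ^ q = θ⁻¹ := by
    have := congrArg (fun x => x ^ q) ht
    simp only [mul_pow, pow_q_pow_q hF, one_pow] at this
    exact eq_inv_of_mul_eq_one_left this
  rw [add_pow_q hF, add_pow_q hF, h1, h2, h3]
  have e1 : t⁻¹ = θ * c := inv_eq_of_mul_eq_one_left h0
  have e2 : c⁻¹ = θ * t := inv_eq_of_mul_eq_one_left (by rw [← h0]; ring)
  have e3 : θ⁻¹ = c * t := inv_eq_of_mul_eq_one_left (by rw [← h0]; ring)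
  rw [e1, e2, e3]
  ring

variable {k : Type*} [Field k] [CharP k 2] {V : Type*} [AddCommGroup V] [Module k V] (ρ : SU 3 F q →* End k V)
variable (hX : NoFix hF ρ) (ho : Odd q)

include hX ho in
/-- **Elements with an isotropic eigenvector.** -/
theorem iso_case {a : ℕ} (ha : q + 1 = 2 ^ a) (h3 : ∀ θ : F, θ * θ ^ q = 1 → θ ^ 3 = 1 → θ = 1) {m : k}
    (hm : ∀ (v : Fin 3 → F) (_ : v ≠ 0) (hv : hermForm 3 F q v v = 0) (μ : Skew F q), (μ : F) ≠ 0 → tau ρ (xs hF v hv μ) = m)
    {g : SU 3 F q} {v : Fin 3 → F} (hv0 : v ≠ 0) (hvv : hermForm 3 F q v v = 0) {θ : F} (hg : act g v = θ • v) :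
    (tau ρ g = 0 ∨ tau ρ g = m) ∧ (Reg g → (JJ q (mat g).trace → tau ρ g = m) ∧ (¬ JJ q (mat g).trace → tau ρ g = 0)) := by
  have h1 := tau_one hF ρ hX ho hm
  obtain ⟨e, f, hfr⟩ := exists_fr3 hF hv0 hvv
  obtain ⟨a', b, c, d, t, he, hf, ht, hc, h0, htr, -⟩ := hfr.tri hF hg
  have hq' := pow_sum hF ht hc h0
  by_cases hθ : θ * θ ^ q = 1
  swap
  · have h2 := tau_of_ne hF ρ hX ho hv0 hvv hg hθ
    refine ⟨Or.inl h2, fun _ => ⟨?_, fun _ => h2⟩⟩
    rintro ⟨ζ, hζ, -, hα⟩
    exfalso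
    have h4 := JJ_roots hF hζ hα θ
    rw [htr, hq'] at h4
    have h5 : θ ^ 3 - (θ + c + t) * θ ^ 2 + (θ * c + c * t + θ * t) * θ - 1 = 0 := by linear_combination h0
    rw [h5] at h4
    rcases mul_eq_zero.1 h4.symm with h6 | h6
    · rcases mul_self_eq_zero.1 h6 |> sub_eq_zero.1 with rfl
      exact hθ hζ
    · rcases sub_eq_zero.1 h6 with rfl
      exact hθ (norm_sq hζ)
  have hθ0 : θ ≠ 0 := by rintro rfl; rw [zero_mul] at hθ; exact zero_ne_one hθ
  have hθq : θ ^ q ≠ 0 := pow_ne_zero _ hθ0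
  obtain rfl : t = θ := mul_right_cancel₀ hθq (ht.trans hθ.symm)
  have hct : c = (t ^ 2)⁻¹ := eq_inv_of_mul_eq_one_left (by rw [← h0]; ring)
  by_cases hθ1 : t = 1
  · -- unipotent
    subst hθ1
    have hc1 : c = 1 := by rw [hct]; simp
    subst hc1
    rw [one_smul] at he hf hg
    obtain ⟨hs, hgs⟩ := hfr.case_c hF hg he hf
    have htr3 : ¬ JJ q (mat g).trace := by
      rintro ⟨ζ, hζ, hζ1, hα⟩
      have h4 := JJ_roots hF hζ hα ζ
      rw [htr, hq', sub_self, zero_mul, zero_mul] at h4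
      rcases cubic_root (θ := 1) (c := 1) (t := 1) (by norm_num) rfl rfl h4 with h | h | h <;> exact hζ1 h
    by_cases ha0 : a' = 0
    · have h5 : g = xs hF v hvv ⟨b, by
          have := hs.tr
          rw [ha0, zero_smul, herm_zero_left, add_zero] at this
          exact this⟩ := by
        rw [hgs]
        exact siegel_congr hF _ _ rfl (by rw [ha0, zero_smul]) rfl
      refine ⟨?_, fun hreg => ?_⟩
      · by_cases hb : b = 0
        · left
          rw [h5, xs_eq_one hF v hvv (by exact hb), h1]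
        · right
          rw [h5]
          exact hm v hv0 hvv _ hb
      · exfalso
        have h6 : act g e = (1 : F) • e := by
          rw [h5, act_xs, hfr.ev, mul_zero, zero_smul, add_zero, one_smul]
        obtain ⟨c', hc'⟩ := hreg 1 v e (by rw [hg, one_smul]) h6 hv0
        exact hfr.e_ne c' hc'
    · have h2 : tau ρ g = 0 := by
        rw [hgs]
        exact tau_siegel hF ρ hX ho hfr ha0 hs
      exact ⟨Or.inl h2, fun _ => ⟨fun h => absurd h htr3, fun _ => h2⟩⟩
  · have hcθ : c ≠ t := by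
      rintro rfl
      exact hθ1 (h3 c hθ (by rw [← h0]; ring))
    obtain ⟨μ, hμ, hreg⟩ := hfr.case_b hF hg he hf hθ ht hc hcθ
    have hpow : g ^ (q * (q + 1)) = 1 := by
      rw [mul_comm, pow_mul, hμ]
      have h6 : ∀ n : ℕ, ∃ ν : Skew F q, (ν : F) = n * μ ∧ xs hF v hvv μ ^ n = xs hF v hvv ν := by
        intro n
        induction n with
        | zero => exact ⟨⟨0, by rw [zero_pow_q hF, add_zero]⟩, by simp, by rw [pow_zero, xs_eq_one hF v hvv rfl]⟩
        | succ n ih =>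
          obtain ⟨ν, h7, h8⟩ := ih
          refine ⟨⟨ν + μ, by rw [add_pow_q hF, add_add_add_comm, ν.2, μ.2, add_zero]⟩, ?_, ?_⟩
          · show (ν : F) + μ = _
            rw [h7]; push_cast; ring
          · rw [pow_succ, h8]
            exact xs_mul hF v hvv ν μ _ rfl
      obtain ⟨ν, h7, h8⟩ := h6 q
      rw [h8]
      exact xs_eq_one hF v hvv (by rw [h7, cast_q hF, zero_mul])
    have h2 := tau_pow ρ ha hpow
    rw [hμ] at h2
    refine ⟨?_, fun hr => ⟨fun _ => ?_, fun h => ?_⟩⟩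
    · by_cases hμ0 : (μ : F) = 0
      · left
        rw [h2, xs_eq_one hF v _ hμ0, h1]
      · right
        rw [h2]
        exact hm v hv0 hvv μ hμ0
    · rw [h2]
      exact hm v hv0 hvv μ (hreg hr)
    · exfalso
      apply h
      exact ⟨t, hθ, hθ1, by rw [htr, hct]; ring⟩

end Cfsg.Agent.H357.M9
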