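import Cfsg.Agent.H357.M9.Iso
import Cfsg.Agent.LieClassical.GUOrder

/-!
# Elements with a non-isotropic eigenvector only (S3442 M9, helper357)
-/

set_option autoImplicit false
set_option linter.unusedSectionVars false

namespace Cfsg.Agent.H357.M9

open Cfsg Cfsg.Agent.LieClassical.HermBasic Cfsg.Agent.LieClassical.HermSiegel Cfsg.Agent.LieClassical.HermGen Matrix Module

universe v

variable {F : Type v} [Field F] [Fintype F] {q : ℕ} (hF : Fintype.card F = q ^ 2)

include hF in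
/-- the trace of the inverse -/
theorem trace_inv (g : SU 3 F q) : (mat g⁻¹).trace = (mat g).trace ^ q := by
  have h1 : ∀ i, mat g⁻¹ i i = mat g i i ^ q := by
    intro i
    have h2 : hermForm 3 F q (act g⁻¹ (Pi.single i 1)) (Pi.single i 1) =
        hermForm 3 F q (Pi.single i 1) (act g (Pi.single i 1)) := by
      rw [← herm_act g, act_act_inv]
    rw [herm_single_right hF, herm_single_left, one_pow, mul_one, one_mul, act_single, act_single] at h2
    exact h2
  rw [Matrix.trace, Matrix.trace, sum_pow_q hF]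
  exact Finset.sum_congr rfl fun i _ => h1 i

include hF in
theorem two_ne (ho : Odd q) : ringChar F ≠ 2 := by
  intro h2
  obtain ⟨e, hprime, he⟩ := FiniteField.card F (ringChar F)
  rw [h2] at he
  have h5 : 2 ∣ q := Nat.Prime.dvd_of_dvd_pow Nat.prime_two (by
    rw [← hF, he]
    exact dvd_pow_self 2 e.ne_zero)
  exact (Nat.not_even_iff_odd.2 ho) (even_iff_two_dvd.2 h5)

include hF in
theorem isSquare_norm (ho : Odd q) {θ : F} (h : θ * θ ^ q = 1) : IsSquare θ := by
  have hθ0 : θ ≠ 0 := by rintro rfl; rw [zero_mul] at h; exact zero_ne_one h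
  rw [FiniteField.isSquare_iff (two_ne hF ho) hθ0]
  obtain ⟨j, hj⟩ := ho
  have h1 : Fintype.card F / 2 = (q + 1) * j := by
    rw [hF]
    have h2 : q ^ 2 = 2 * ((q + 1) * j) + 1 := by subst hj; ring
    omega
  rw [h1, pow_mul, pow_succ_norm h, one_pow]

include hF in
theorem isSquare_fix (ho : Odd q) {c : F} (h : c ^ q = c) : IsSquare c := by
  by_cases hc0 : c = 0
  · exact ⟨0, by rw [hc0, mul_zero]⟩
  rw [FiniteField.isSquare_iff (two_ne hF ho) hc0]
  obtain ⟨j, hj⟩ := ho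
  have h1 : Fintype.card F / 2 = (2 * j) * (j + 1) := by
    rw [hF]
    have h2 : q ^ 2 = 2 * ((2 * j) * (j + 1)) + 1 := by subst hj; ring
    omega
  have h3 : c ^ (2 * j) = 1 := by
    have h4 : c ^ (2 * j) * c = 1 * c := by rw [← pow_succ, ← hj, one_mul, h]
    exact mul_right_cancel₀ hc0 h4
  rw [h1, pow_mul, h3, one_pow]

include hF in
/-- **A second eigenvector** -/
theorem exists_second (ho : Odd q) {g : SU 3 F q} {w : Fin 3 → F} (hw : hermForm 3 F q w w ≠ 0) {θ : F}
    (hg : act g w = θ • w) : ∃ (w₂ : Fin 3 → F) (l : F), w₂ ≠ 0 ∧ hermForm 3 F q w₂ w = 0 ∧ act g w₂ = l • w₂ := by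
  have hθ : θ * θ ^ q = 1 := by
    have h1 : hermForm 3 F q (act g w) (act g w) = hermForm 3 F q w w := herm_act g w w
    rw [hg, herm_smul_left, herm_smul_right, ← mul_assoc] at h1
    exact mul_right_cancel₀ hw (h1.trans (one_mul _).symm)
  have hθ0 : θ ≠ 0 := by rintro rfl; rw [zero_mul] at hθ; exact zero_ne_one hθ
  have hθq : θ ^ q = θ⁻¹ := eq_inv_of_mul_eq_one_left (by rw [mul_comm]; exact hθ)
  -- `g` preserves the orthogonal space
  have hperp : ∀ u, hermForm 3 F q u w = 0 → hermForm 3 F q (act g u) w = 0 := by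
    intro u hu
    have h1 : hermForm 3 F q (act g u) (act g w) = 0 := by rw [herm_act, hu]
    rw [hg, herm_smul_right] at h1
    exact (mul_eq_zero.1 h1).resolve_left (pow_ne_zero _ hθ0)
  obtain ⟨u, -, hu0, huw, -⟩ := exists_ne_zero_perp hF (le_refl 3) (le_refl 3) w w
  by_cases hdep : ∃ l : F, act g u = l • u
  · obtain ⟨l, hl⟩ := hdep
    exact ⟨u, l, hu0, huw, hl⟩
  push Not at hdep
  have huw' := hperp u huw
  -- a basis
  have hP : (colM w u (act g u)).det ≠ 0 := by
    intro h0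
    obtain ⟨c, hc, h1⟩ := Matrix.exists_mulVec_eq_zero_iff.2 h0
    rw [colM_mulVec] at h1
    have a1 := congrArg (fun x => hermForm 3 F q x w) h1
    simp only [herm_add_left, herm_smul_left, herm_zero_left, huw, huw', mul_zero, add_zero] at a1
    have a2 : c 0 = 0 := (mul_eq_zero.1 a1).resolve_right hw
    rw [a2, zero_smul, zero_add] at h1
    have a3 : c 2 = 0 := by
      by_contra h2
      apply hdep (-(c 2)⁻¹ * c 1)
      have h3 : act g u = (c 2)⁻¹ • (c 2 • act g u) := by rw [smul_smul, inv_mul_cancel₀ h2, one_smul]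
      rw [h3, eq_neg_of_add_eq_zero_right h1, smul_neg, smul_smul, ← neg_smul, neg_mul]
    rw [a3, zero_smul, add_zero] at h1
    have a4 : c 1 = 0 := (smul_eq_zero.1 h1).resolve_right hu0
    apply hc
    funext i
    fin_cases i
    · exact a2
    · exact a4
    · exact a3
  have hunit : IsUnit (colM w u (act g u)).det := hP.isUnit
  obtain ⟨c, hc⟩ : ∃ c : Fin 3 → F, act g (act g u) = c 0 • w + c 1 • u + c 2 • act g u := by
    refine ⟨(colM w u (act g u))⁻¹ *ᵥ act g (act g u), ?_⟩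
    rw [← colM_mulVec, Matrix.mulVec_mulVec, Matrix.mul_nonsing_inv _ hunit, Matrix.one_mulVec]
  have hc0 : c 0 = 0 := by
    have h1 := hperp _ huw'
    rw [hc] at h1
    simp only [herm_add_left, herm_smul_left, huw, huw', mul_zero, add_zero] at h1
    exact (mul_eq_zero.1 h1).resolve_right hw
  rw [hc0, zero_smul, zero_add] at hc
  set x := c 1 with hx
  set y := c 2 with hy
  -- trace and determinant
  obtain ⟨s1, s2, -⟩ := similar_of (A := mat g) (T := !![θ, 0, 0; 0, 0, x; 0, 1, y]) hP (by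
    rw [mul_colM]
    have e1 : mat g *ᵥ w = θ • w := hg
    have e2 : mat g *ᵥ act g u = x • u + y • act g u := hc
    have e3 : mat g *ᵥ u = act g u := rfl
    rw [e1, e2, e3]
    ext i j
    fin_cases j <;> simp [colM, Matrix.mul_apply, Fin.sum_univ_three, mul_comm])
  have hdet : -(θ * x) = 1 := by
    rw [det_mat] at s2
    rw [s2]
    simp [Matrix.det_fin_three]
  have hx0 : x ≠ 0 := by
    intro h0
    rw [h0, mul_zero, neg_zero] at hdet
    exact zero_ne_one hdet
  have hgu : act g⁻¹ u = -(x⁻¹ * y) • u + x⁻¹ • act g u := by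
    have h1 : act g⁻¹ (act g (act g u)) = x • act g⁻¹ u + y • u := by
      rw [hc, act_add, act_smul, act_smul, act_inv_act]
    rw [act_inv_act] at h1
    rw [h1]
    rw [smul_add, smul_smul, smul_smul, inv_mul_cancel₀ hx0, one_smul, neg_smul]
    abel
  have hgw : act g⁻¹ w = θ⁻¹ • w := by
    have h2 := act_inv_act g w
    rw [hg, act_smul] at h2
    conv_rhs => rw [← h2]
    rw [smul_smul, inv_mul_cancel₀ hθ0, one_smul]
  obtain ⟨t1, -, -⟩ := similar_of (A := mat g⁻¹) (T := !![θ⁻¹, 0, 0; 0, -(x⁻¹ * y), 1; 0, x⁻¹, 0]) hP (by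
    rw [mul_colM]
    have e1 : mat g⁻¹ *ᵥ w = θ⁻¹ • w := hgw
    have e2 : mat g⁻¹ *ᵥ act g u = u := act_inv_act g u
    have e3 : mat g⁻¹ *ᵥ u = -(x⁻¹ * y) • u + x⁻¹ • act g u := hgu
    rw [e1, e2, e3]
    ext i j
    fin_cases j <;> simp [colM, Matrix.mul_apply, Fin.sum_univ_three, mul_comm])
  have hyq : y ^ q = θ * y := by
    rw [trace_inv hF, s1] at t1
    simp only [Matrix.trace, Matrix.diag, Fin.sum_univ_three] at t1
    simp at t1
    have h1 : (θ + y) ^ q = θ⁻¹ + -(x⁻¹ * y) := by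
      rw [← t1]
    rw [add_pow_q hF, hθq] at h1
    have h2 : x⁻¹ = -θ := inv_eq_of_mul_eq_one_right (by rw [← hdet]; ring)
    rw [h2] at h1
    have := add_left_cancel h1
    rw [this]; ring
  -- the discriminant
  have h2F : (2 : F) ≠ 0 := Ring.two_ne_zero (two_ne hF ho)
  obtain ⟨s, hs⟩ : IsSquare (y ^ 2 - 4 * θ⁻¹) := by
    have h1 : y ^ 2 - 4 * θ⁻¹ = θ⁻¹ * (y * y ^ q - 4) := by
      rw [hyq]; field_simp
    rw [h1]
    refine (isSquare_norm hF ho ?_).mul (isSquare_fix hF ho ?_)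
    · rw [inv_pow, ← mul_inv, hθ, inv_one]
    · have h2 : (2 : F) ^ q = 2 := by
        have := add_pow_q hF (1 : F) 1
        rw [one_pow, one_add_one_eq_two] at this
        exact this
      rw [sub_pow_q hF, norm_pow_q hF, show (4 : F) = 2 * 2 by norm_num, mul_pow, h2]
  refine ⟨act g u - ((y - s) / 2) • u, (y + s) / 2, ?_, ?_, ?_⟩
  · intro h0
    exact hdep _ (sub_eq_zero.1 h0)
  · rw [herm_sub_left, herm_smul_left, huw, huw', mul_zero, sub_zero]
  · obtain ⟨A, hA⟩ : ∃ A, A = (y + s) / 2 := ⟨_, rfl⟩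
    obtain ⟨B, hB⟩ : ∃ B, B = (y - s) / 2 := ⟨_, rfl⟩
    have h3 : y = A + B := by rw [hA, hB]; field_simp; ring
    have h4 : x = -(A * B) := by
      have h4F : (4 : F) ≠ 0 := by
        rw [show (4 : F) = 2 * 2 by norm_num]
        exact mul_ne_zero h2F h2F
      have h5 : A * B = θ⁻¹ := by
        have h6 : A * B = (y ^ 2 - s * s) / 4 := by rw [hA, hB]; field_simp; ring
        rw [h6, ← hs, sub_sub_cancel, mul_div_cancel_left₀ _ h4F]
      rw [h5]
      exact neg_eq_iff_eq_neg.1 (eq_inv_of_mul_eq_one_left (by rw [← hdet]; ring))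
    rw [← hA, ← hB, sub_eq_add_neg, ← neg_smul, act_add, act_smul, hc, h4, h3]
    module

variable {k : Type*} [Field k] [CharP k 2] {V : Type*} [AddCommGroup V] [Module k V] (ρ : SU 3 F q →* End k V)
variable (hX : NoFix hF ρ) (ho : Odd q)

theorem norm_of_eig {g : SU 3 F q} {w : Fin 3 → F} (hw : hermForm 3 F q w w ≠ 0) {θ : F} (hg : act g w = θ • w) :
    θ * θ ^ q = 1 := by
  have h1 : hermForm 3 F q (act g w) (act g w) = hermForm 3 F q w w := herm_act g w w
  rw [hg, herm_smul_left, herm_smul_right, ← mul_assoc] at h1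
  exact mul_right_cancel₀ hw (h1.trans (one_mul _).symm)

include hF ho in
/-- elements with an eigenvector, but without isotropic eigenvectors -/
theorem non_case {g : SU 3 F q} {w : Fin 3 → F} (hw0 : w ≠ 0) {θ : F} (hg : act g w = θ • w)
    (hiso : ¬ ∃ (v : Fin 3 → F) (θ : F), v ≠ 0 ∧ hermForm 3 F q v v = 0 ∧ act g v = θ • v) :
    g ^ (q + 1) = 1 ∧ (Reg g → ¬ JJ q (mat g).trace) := by
  push Not at hiso
  have hw : hermForm 3 F q w w ≠ 0 := fun h => hiso w θ hw0 h hg
  obtain ⟨w₂, l, hw20, hw2w, hg2⟩ := exists_second hF ho hw hg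
  have hw2 : hermForm 3 F q w₂ w₂ ≠ 0 := fun h => hiso w₂ l hw20 h hg2
  have hww2 := herm_eq_zero_swap hF hw2w
  obtain ⟨w₃, -, hw30, hw3w, hw3w2⟩ := exists_ne_zero_perp hF (le_refl 3) (le_refl 3) w w₂
  have hww3 := herm_eq_zero_swap hF hw3w
  have hw2w3 := herm_eq_zero_swap hF hw3w2
  -- a basis
  have hP : (colM w w₂ w₃).det ≠ 0 := by
    intro h0
    obtain ⟨c, hc, h1⟩ := Matrix.exists_mulVec_eq_zero_iff.2 h0
    rw [colM_mulVec] at h1
    have a1 := congrArg (fun x => hermForm 3 F q x w) h1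
    have a2 := congrArg (fun x => hermForm 3 F q x w₂) h1
    simp only [herm_add_left, herm_smul_left, herm_zero_left, hw2w, hw3w, hww2, hw3w2, mul_zero, add_zero, zero_add] at a1 a2
    have b1 : c 0 = 0 := (mul_eq_zero.1 a1).resolve_right hw
    have b2 : c 1 = 0 := (mul_eq_zero.1 a2).resolve_right hw2
    rw [b1, b2, zero_smul, zero_smul, zero_add, zero_add] at h1
    have b3 : c 2 = 0 := (smul_eq_zero.1 h1).resolve_right hw30
    apply hc
    funext i
    fin_cases i
    · exact b1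
    · exact b2
    · exact b3
  have hunit : IsUnit (colM w w₂ w₃).det := hP.isUnit
  have hspan : ∀ x, ∃ c : Fin 3 → F, x = c 0 • w + c 1 • w₂ + c 2 • w₃ := by
    intro x
    refine ⟨(colM w w₂ w₃)⁻¹ *ᵥ x, ?_⟩
    rw [← colM_mulVec, Matrix.mulVec_mulVec, Matrix.mul_nonsing_inv _ hunit, Matrix.one_mulVec]
  have hw3 : hermForm 3 F q w₃ w₃ ≠ 0 := by
    intro h0
    apply hw30
    apply herm_nondeg hF
    intro x
    obtain ⟨c, hc⟩ := hspan x
    rw [hc]
    simp only [herm_add_right hF, herm_smul_right, hw3w, hw3w2, h0, mul_zero, add_zero]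
  have hθ := norm_of_eig hw hg
  have hl := norm_of_eig hw2 hg2
  have hθ0 : θ ≠ 0 := by rintro rfl; rw [zero_mul] at hθ; exact zero_ne_one hθ
  have hl0 : l ≠ 0 := by rintro rfl; rw [zero_mul] at hl; exact zero_ne_one hl
  obtain ⟨c, hc⟩ := hspan (act g w₃)
  have hc0 : c 0 = 0 := by
    have h1 : hermForm 3 F q (act g w₃) (act g w) = 0 := by rw [herm_act, hw3w]
    rw [hg, herm_smul_right, hc] at h1
    simp only [herm_add_left, herm_smul_left, hw2w, hw3w, mul_zero, add_zero] at h1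
    exact (mul_eq_zero.1 ((mul_eq_zero.1 h1).resolve_left (pow_ne_zero _ hθ0))).resolve_right hw
  have hc1 : c 1 = 0 := by
    have h1 : hermForm 3 F q (act g w₃) (act g w₂) = 0 := by rw [herm_act, hw3w2]
    rw [hg2, herm_smul_right, hc] at h1
    simp only [herm_add_left, herm_smul_left, hww2, hw3w2, mul_zero, add_zero, zero_add] at h1
    exact (mul_eq_zero.1 ((mul_eq_zero.1 h1).resolve_left (pow_ne_zero _ hl0))).resolve_right hw2
  rw [hc0, hc1, zero_smul, zero_smul, zero_add, zero_add] at hc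
  set b := c 2 with hb
  have hbn := norm_of_eig hw3 hc
  have hb0 : b ≠ 0 := by intro h; rw [h, zero_mul] at hbn; exact zero_ne_one hbn
  -- `g ^ (q + 1) = 1`
  have hpow : g ^ (q + 1) = 1 := by
    apply ext_act
    intro x
    obtain ⟨d, hd⟩ := hspan x
    rw [act_one, hd]
    simp only [act_add, act_smul, act_pow_eig hg, act_pow_eig hg2, act_pow_eig hc, pow_succ_norm hθ, pow_succ_norm hl,
      pow_succ_norm hbn, one_smul]
  refine ⟨hpow, fun hreg => ?_⟩
  rintro ⟨ζ, hζ, -, hα⟩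
  -- trace and determinant
  obtain ⟨s1, s2, -⟩ := similar_of (A := mat g) (T := !![θ, 0, 0; 0, l, 0; 0, 0, b]) hP (by
    rw [mul_colM]
    have e1 : mat g *ᵥ w = θ • w := hg
    have e2 : mat g *ᵥ w₂ = l • w₂ := hg2
    have e3 : mat g *ᵥ w₃ = b • w₃ := hc
    rw [e1, e2, e3]
    ext i j
    fin_cases j <;> simp [colM, Matrix.mul_apply, Fin.sum_univ_three, mul_comm])
  have hdet : θ * l * b = 1 := by
    rw [det_mat] at s2
    rw [s2]
    simp [Matrix.det_fin_three]
  have htr : (mat g).trace = θ + l + b := by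
    rw [s1]
    simp [Matrix.trace, Fin.sum_univ_three]
  have hq' : (θ + l + b) ^ q = θ * l + l * b + θ * b := by
    have h1 : θ ^ q = l * b := by
      have : θ ^ q = θ⁻¹ := eq_inv_of_mul_eq_one_left (by rw [mul_comm]; exact hθ)
      rw [this]; exact inv_eq_of_mul_eq_one_left (by rw [← hdet]; ring)
    have h2 : l ^ q = θ * b := by
      have : l ^ q = l⁻¹ := eq_inv_of_mul_eq_one_left (by rw [mul_comm]; exact hl)
      rw [this]; exact inv_eq_of_mul_eq_one_left (by rw [← hdet]; ring)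
    have h4 : b ^ q = θ * l := by
      have : b ^ q = b⁻¹ := eq_inv_of_mul_eq_one_left (by rw [mul_comm]; exact hbn)
      rw [this]; exact inv_eq_of_mul_eq_one_left (by rw [← hdet])
    rw [add_pow_q hF, add_pow_q hF, h1, h2, h4]
    ring
  have key : ∀ x, x = θ ∨ x = l ∨ x = b → x = ζ ∨ x = (ζ ^ 2)⁻¹ := by
    intro x hx
    have h4 := JJ_roots hF hζ hα x
    have h5 : x ^ 3 - (mat g).trace * x ^ 2 + (mat g).trace ^ q * x - 1 = 0 := by
      rw [htr, hq']
      rcases hx with rfl | rfl | rfl <;> linear_combination hdet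
    rw [h5] at h4
    rcases mul_eq_zero.1 h4.symm with h6 | h6
    · exact Or.inl (sub_eq_zero.1 (mul_self_eq_zero.1 h6))
    · exact Or.inr (sub_eq_zero.1 h6)
  have n1 : θ ≠ l := by
    rintro rfl
    obtain ⟨c', hc'⟩ := hreg θ w w₂ hg hg2 hw0
    apply hw2
    conv_lhs => rw [hc', herm_smul_left, ← hc', hww2, mul_zero]
  have n2 : θ ≠ b := by
    intro h
    rw [← h] at hc
    obtain ⟨c', hc'⟩ := hreg θ w w₃ hg hc hw0
    apply hw3
    conv_lhs => rw [hc', herm_smul_left, ← hc', hww3, mul_zero]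
  have n3 : l ≠ b := by
    intro h
    rw [← h] at hc
    obtain ⟨c', hc'⟩ := hreg l w₂ w₃ hg2 hc hw20
    apply hw3
    conv_lhs => rw [hc', herm_smul_left, ← hc', hw2w3, mul_zero]
  rcases key θ (Or.inl rfl) with h4 | h4 <;> rcases key l (Or.inr (Or.inl rfl)) with h5 | h5 <;>
    rcases key b (Or.inr (Or.inr rfl)) with h6 | h6
  · exact n1 (h4.trans h5.symm)
  · exact n1 (h4.trans h5.symm)
  · exact n2 (h4.trans h6.symm)
  · exact n3 (h5.trans h6.symm)
  · exact n3 (h5.trans h6.symm)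
  · exact n2 (h4.trans h6.symm)
  · exact n1 (h4.trans h5.symm)
  · exact n1 (h4.trans h5.symm)

include hX ho in
/-- **Elements with an eigenvector.** -/
theorem eig_case {a : ℕ} (ha : q + 1 = 2 ^ a) (h3 : ∀ θ : F, θ * θ ^ q = 1 → θ ^ 3 = 1 → θ = 1) {m : k}
    (hm : ∀ (v : Fin 3 → F) (_ : v ≠ 0) (hv : hermForm 3 F q v v = 0) (μ : Skew F q), (μ : F) ≠ 0 → tau ρ (xs hF v hv μ) = m)
    {g : SU 3 F q} {w : Fin 3 → F} (hw0 : w ≠ 0) {θ : F} (hg : act g w = θ • w) :
    (tau ρ g = 0 ∨ tau ρ g = m) ∧ (Reg g → (JJ q (mat g).trace → tau ρ g = m) ∧ (¬ JJ q (mat g).trace → tau ρ g = 0)) := by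
  by_cases hiso : ∃ (v : Fin 3 → F) (θ : F), v ≠ 0 ∧ hermForm 3 F q v v = 0 ∧ act g v = θ • v
  · obtain ⟨v, θ', hv0, hvv, hv⟩ := hiso
    exact iso_case hF ρ hX ho ha h3 hm hv0 hvv hv
  obtain ⟨hpow, hJ⟩ := non_case hF ho hw0 hg hiso
  have htau : tau ρ g = 0 := by
    rw [tau_pow ρ ha (by rw [mul_comm, pow_mul, hpow, one_pow]), hpow]
    exact tau_one hF ρ hX ho hm
  exact ⟨Or.inl htau, fun hreg => ⟨fun h => absurd h (hJ hreg), fun _ => htau⟩⟩

end Cfsg.Agent.H357.M9
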