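import Cfsg.Agent.H357.M9.Tri

/-!
# Traces of a representation of `SU_3(q)` in characteristic two (S3442 M9, helper357)
-/

set_option autoImplicit false
set_option linter.unusedSectionVars false

namespace Cfsg.Agent.H357.M9

open Cfsg Cfsg.Agent.LieClassical.HermBasic Cfsg.Agent.LieClassical.HermSiegel Cfsg.Agent.LieClassical.HermGen Matrix Module

universe v

/-! ### traces in characteristic two -/

section TraceTwo

variable {k : Type*} [Field k] [CharP k 2] {V : Type*} [AddCommGroup V] [Module k V]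

theorem two_smul_end (f : End k V) : f + f = 0 := by
  apply LinearMap.ext
  intro v
  show f v + f v = 0
  rw [← two_smul k, CharTwo.two_eq_zero, zero_smul]

theorem sub_one_pow (A : End k V) (n : ℕ) : (A - 1) ^ 2 ^ n = A ^ 2 ^ n - 1 := by
  induction n with
  | zero => simp
  | succ n ih =>
    rw [pow_succ, pow_mul, ih, pow_mul]
    have h1 : (A ^ 2 ^ n - 1) ^ 2 = (A ^ 2 ^ n) ^ 2 - (A ^ 2 ^ n + A ^ 2 ^ n) + 1 := by noncomm_ring
    rw [h1, two_smul_end, sub_zero, sub_eq_add_neg]
    congr 1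
    exact eq_neg_of_add_eq_zero_left (two_smul_end 1)

/-- **the `2`-part of an operator does not change the trace** -/
theorem trace_mul_of_pow (A B : End k V) (hAB : Commute A B) {n : ℕ} (hA : A ^ 2 ^ n = 1) :
    LinearMap.trace k V (A * B) = LinearMap.trace k V B := by
  have h1 : IsNilpotent (A - 1) := ⟨2 ^ n, by rw [sub_one_pow, hA, sub_self]⟩
  have h2 : IsNilpotent ((A - 1) * B) := (hAB.sub_left (Commute.one_left B)).isNilpotent_mul_right h1
  have h3 := LinearMap.isNilpotent_trace_of_isNilpotent h2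
  have h4 := h3.eq_zero
  rw [sub_mul, one_mul, map_sub, sub_eq_zero] at h4
  exact h4

end TraceTwo

/-! ### root elements -/

variable {F : Type v} [Field F] [Fintype F] {q : ℕ} (hF : Fintype.card F = q ^ 2)

/-- the elements `μ` with `μ + μ ^ q = 0` -/
abbrev Skew (F : Type v) [Field F] (q : ℕ) : Type v := {μ : F // μ + μ ^ q = 0}

theorem isSiegel_xs {v : Fin 3 → F} (hv : hermForm 3 F q v v = 0) (μ : Skew F q) : IsSiegel q v 0 (μ : F) :=
  ⟨hv, herm_zero_left _, by rw [herm_zero_left, add_zero]; exact μ.2⟩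

/-- the root element -/
def xs (v : Fin 3 → F) (hv : hermForm 3 F q v v = 0) (μ : Skew F q) : SU 3 F q :=
  siegel hF v 0 μ (isSiegel_xs hv μ)

theorem act_xs (v : Fin 3 → F) (hv : hermForm 3 F q v v = 0) (μ : Skew F q) (w : Fin 3 → F) :
    act (xs hF v hv μ) w = w + ((μ : F) * hermForm 3 F q w v) • v := by
  rw [xs, act_siegel, herm_zero_right hF, smul_zero, add_zero, sub_zero]

theorem xs_eq_one (v : Fin 3 → F) (hv : hermForm 3 F q v v = 0) {μ : Skew F q} (h : (μ : F) = 0) : xs hF v hv μ = 1 := by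
  apply ext_act
  intro w
  rw [act_xs, h, zero_mul, zero_smul, add_zero, act_one]

theorem xs_mul (v : Fin 3 → F) (hv : hermForm 3 F q v v = 0) (μ μ' ν : Skew F q) (h : (ν : F) = μ + μ') :
    xs hF v hv μ * xs hF v hv μ' = xs hF v hv ν := by
  apply ext_act
  intro w
  rw [act_mul, act_xs, act_xs, act_xs, h, herm_add_left, herm_smul_left, hv, mul_zero, add_zero, add_assoc, ← add_smul]
  congr 2
  ring

theorem conj_xs (g : SU 3 F q) (v : Fin 3 → F) (hv : hermForm 3 F q v v = 0) (μ : Skew F q) :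
    g * xs hF v hv μ * g⁻¹ = xs hF (act g v) (by rw [herm_act]; exact hv) μ := by
  apply ext_act
  intro w
  rw [act_mul, act_mul, act_xs, act_xs, act_add, act_smul, act_act_inv]
  congr 3
  rw [← herm_act g (act g⁻¹ w) v, act_act_inv]

theorem xs_smul (v : Fin 3 → F) (hv : hermForm 3 F q v v = 0) (c : F) (hcv : hermForm 3 F q (c • v) (c • v) = 0)
    (μ ν : Skew F q) (h : (ν : F) = c * c ^ q * μ) : xs hF (c • v) hcv μ = xs hF v hv ν := by
  apply ext_act
  intro w
  rw [act_xs, act_xs, herm_smul_right, smul_smul, h]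
  congr 2
  ring

theorem xs_congr {v v' : Fin 3 → F} (h : v = v') (hv : hermForm 3 F q v v = 0) (hv' : hermForm 3 F q v' v' = 0)
    (μ : Skew F q) : xs hF v hv μ = xs hF v' hv' μ := by
  subst h; rfl

/-- the element `g` with the root group -/
theorem exists_mul_skew {s : F} (hs : s ^ q = s) (μ : Skew F q) : s * μ + (s * (μ : F)) ^ q = 0 := by
  rw [mul_pow, hs, ← mul_add, μ.2, mul_zero]

/-! ### the trace function -/

variable {k : Type*} [Field k] [CharP k 2] {V : Type*} [AddCommGroup V] [Module k V] (ρ : SU 3 F q →* End k V)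

/-- the trace -/
noncomputable def tau (g : SU 3 F q) : k := LinearMap.trace k V (ρ g)

theorem tau_conj (g h : SU 3 F q) : tau ρ (h * g * h⁻¹) = tau ρ g := by
  rw [tau, map_mul, LinearMap.trace_mul_comm, ← map_mul, ← mul_assoc, inv_mul_cancel, one_mul, tau]

theorem tau_of_isConj {g h : SU 3 F q} (H : IsConj g h) : tau ρ g = tau ρ h := by
  obtain ⟨c, hc⟩ := isConj_iff.1 H
  rw [← hc, tau_conj]

/-- the root groups have no fixed vectors -/
def NoFix : Prop := ∀ (v : Fin 3 → F) (_ : v ≠ 0) (hv : hermForm 3 F q v v = 0) (w : V),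
  (∀ μ : Skew F q, ρ (xs hF v hv μ) w = w) → w = 0

variable (hX : NoFix hF ρ)
include hX

theorem sum_xs [Fintype (Skew F q)] {v : Fin 3 → F} (hv0 : v ≠ 0) (hv : hermForm 3 F q v v = 0) :
    ∑ μ : Skew F q, ρ (xs hF v hv μ) = 0 := by
  apply LinearMap.ext
  intro w
  refine hX v hv0 hv _ fun μ => ?_
  let e : Skew F q ≃ Skew F q :=
    { toFun := fun ν => ⟨μ + ν, by
        rw [add_pow_q hF, add_add_add_comm, μ.2, ν.2, add_zero]⟩
      invFun := fun ν => ⟨-μ + ν, by
        rw [add_pow_q hF, neg_pow_q hF, add_add_add_comm, ← neg_add, μ.2, ν.2, neg_zero, add_zero]⟩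
      left_inv := fun ν => Subtype.ext (by simp)
      right_inv := fun ν => Subtype.ext (by simp) }
  rw [LinearMap.sum_apply, map_sum]
  conv_rhs => rw [← Equiv.sum_comp e]
  refine Finset.sum_congr rfl fun ν _ => ?_
  rw [← xs_mul hF v hv μ ν (e ν) rfl, map_mul]
  rfl

theorem sum_tau [Fintype (Skew F q)] {v : Fin 3 → F} (hv0 : v ≠ 0) (hv : hermForm 3 F q v v = 0) (g : SU 3 F q) :
    ∑ μ : Skew F q, tau ρ (g * xs hF v hv μ) = 0 := by
  simp only [tau, map_mul]
  rw [← map_sum, ← Finset.mul_sum, sum_xs hF ρ hX hv0 hv, mul_zero, map_zero]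

end Cfsg.Agent.H357.M9
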