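import Cfsg.Agent.LieClassical.HermGen

/-!
# Elements of `SU_3(q)` with an isotropic eigenvector (S3442 M9, helper357)
-/

set_option autoImplicit false
set_option linter.unusedSectionVars false

namespace Cfsg.Agent.H357.M9

open Cfsg Cfsg.Agent.LieClassical.HermBasic Cfsg.Agent.LieClassical.HermSiegel Cfsg.Agent.LieClassical.HermGen Matrix Module

universe v

variable {F : Type v} [Field F] [Fintype F] {q : ℕ}

/-- a hyperbolic frame -/
structure Fr3 (q : ℕ) (v e f : Fin 3 → F) : Prop where
  vv : hermForm 3 F q v v = 0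
  ff : hermForm 3 F q f f = 0
  vf : hermForm 3 F q v f = 1
  fv : hermForm 3 F q f v = 1
  ev : hermForm 3 F q e v = 0
  ve : hermForm 3 F q v e = 0
  ef : hermForm 3 F q e f = 0
  fe : hermForm 3 F q f e = 0
  ee : hermForm 3 F q e e = 1

theorem mem_coord (v : Fin 3 → F) : v ∈ coordSub F 3 3 := mem_coordSub_top v

theorem exists_fr3 (hF : Fintype.card F = q ^ 2) {v : Fin 3 → F} (hv : v ≠ 0) (hvv : hermForm 3 F q v v = 0) :
    ∃ e f, Fr3 q v e f := by
  obtain ⟨z, hz⟩ := exists_herm_ne_zero hF hv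
  obtain ⟨t, ht⟩ := exists_iso_correct hF hvv hz
  set z' := z + t • v with hz'
  have h1 : hermForm 3 F q v z' = hermForm 3 F q v z := by
    rw [hz', herm_add_right hF, herm_smul_right, hvv, mul_zero, add_zero]
  set c := ((hermForm 3 F q v z)⁻¹) ^ q with hc
  set f := c • z' with hf
  have h2 : hermForm 3 F q v f = 1 := by
    rw [hf, herm_smul_right, h1, hc, pow_q_pow_q hF, inv_mul_cancel₀ hz]
  have h3 : hermForm 3 F q f f = 0 := by
    rw [hf, herm_smul_left, herm_smul_right, ht, mul_zero, mul_zero]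
  obtain ⟨e, -, h4, h5, h6⟩ := exists_perp hF (le_refl 3) (le_refl 3) (mem_coord v) (mem_coord f) hvv h3
    (by rw [h2]; exact one_ne_zero) (c := 1) (one_pow q)
  exact ⟨e, f, hvv, h3, h2, by rw [herm_swap hF, h2, one_pow], h4, herm_eq_zero_swap hF h4, h5,
    herm_eq_zero_swap hF h5, h6⟩

/-- the matrix with the given columns -/
def colM (v e f : Fin 3 → F) : Matrix (Fin 3) (Fin 3) F := (Matrix.of ![v, e, f])ᵀ

theorem colM_mulVec (v e f : Fin 3 → F) (c : Fin 3 → F) : colM v e f *ᵥ c = c 0 • v + c 1 • e + c 2 • f := by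
  funext i
  simp [colM, Matrix.mulVec, dotProduct, Fin.sum_univ_three, mul_comm]

theorem mul_colM (A : Matrix (Fin 3) (Fin 3) F) (v e f : Fin 3 → F) :
    A * colM v e f = colM (A *ᵥ v) (A *ᵥ e) (A *ᵥ f) := by
  ext i j
  fin_cases j <;> simp [colM, Matrix.mul_apply, Matrix.mulVec, dotProduct, Fin.sum_univ_three]

theorem similar_of {A P T : Matrix (Fin 3) (Fin 3) F} (hP : P.det ≠ 0) (h : A * P = P * T) :
    A.trace = T.trace ∧ A.det = T.det ∧ A.charpoly = T.charpoly := by
  have hu : IsUnit P.det := hP.isUnit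
  have h1 : A = P * T * P⁻¹ := by
    rw [← h, mul_assoc, Matrix.mul_nonsing_inv _ hu, mul_one]
  refine ⟨?_, ?_, ?_⟩
  · rw [h1, Matrix.trace_mul_comm, ← mul_assoc, Matrix.nonsing_inv_mul _ hu, one_mul]
  · have h2 := congrArg Matrix.det h
    rw [Matrix.det_mul, Matrix.det_mul, mul_comm] at h2
    exact mul_left_cancel₀ hP h2
  · rw [h1, Matrix.charpoly_mul_comm, ← mul_assoc, Matrix.nonsing_inv_mul _ hu, one_mul]

variable (hF : Fintype.card F = q ^ 2)
include hF

theorem Fr3.det_ne {v e f : Fin 3 → F} (h : Fr3 q v e f) : (colM v e f).det ≠ 0 := by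
  intro h0
  obtain ⟨c, hc, h1⟩ := Matrix.exists_mulVec_eq_zero_iff.2 h0
  rw [colM_mulVec] at h1
  apply hc
  have a1 := congrArg (fun w => hermForm 3 F q w f) h1
  have a2 := congrArg (fun w => hermForm 3 F q w e) h1
  have a3 := congrArg (fun w => hermForm 3 F q w v) h1
  simp only [herm_add_left, herm_smul_left, herm_zero_left, h.vf, h.ef, h.ff, h.ve, h.ee, h.fe, h.vv, h.ev, h.fv,
    mul_zero, mul_one, add_zero, zero_add] at a1 a2 a3
  funext i
  fin_cases i
  · exact a1
  · exact a2
  · exact a3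

theorem Fr3.decomp {v e f : Fin 3 → F} (h : Fr3 q v e f) (w : Fin 3 → F) :
    w = hermForm 3 F q w f • v + hermForm 3 F q w e • e + hermForm 3 F q w v • f := by
  have hu : IsUnit (colM v e f).det := (h.det_ne hF).isUnit
  have h1 : w = colM v e f *ᵥ ((colM v e f)⁻¹ *ᵥ w) := by
    rw [Matrix.mulVec_mulVec, Matrix.mul_nonsing_inv _ hu, Matrix.one_mulVec]
  set c := (colM v e f)⁻¹ *ᵥ w with hc
  rw [colM_mulVec] at h1
  have a1 : hermForm 3 F q w f = c 0 := by
    rw [h1]
    simp only [herm_add_left, herm_smul_left, h.vf, h.ef, h.ff, mul_zero, mul_one, add_zero]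
  have a2 : hermForm 3 F q w e = c 1 := by
    rw [h1]
    simp only [herm_add_left, herm_smul_left, h.ve, h.ee, h.fe, mul_zero, mul_one, add_zero, zero_add]
  have a3 : hermForm 3 F q w v = c 2 := by
    rw [h1]
    simp only [herm_add_left, herm_smul_left, h.vv, h.ev, h.fv, mul_zero, mul_one, zero_add]
  rw [a1, a2, a3]
  exact h1

/-- the triangular form of an element with an isotropic eigenvector -/
theorem Fr3.tri {v e f : Fin 3 → F} (h : Fr3 q v e f) {g : SU 3 F q} {θ : F} (hg : act g v = θ • v) :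
    ∃ a b c d t : F, act g e = d • v + c • e ∧ act g f = b • v + a • e + t • f ∧ t * θ ^ q = 1 ∧ c * c ^ q = 1 ∧
      θ * c * t = 1 ∧ (mat g).trace = θ + c + t ∧
      (mat g).charpoly = (Polynomial.X - Polynomial.C θ) * (Polynomial.X - Polynomial.C c) * (Polynomial.X - Polynomial.C t) := by
  have hv0 : v ≠ 0 := by
    rintro rfl
    have := h.vf
    rw [herm_zero_left] at this
    exact zero_ne_one this
  have hθ0 : θ ≠ 0 := by
    rintro rfl
    rw [zero_smul, act_eq_zero] at hg
    exact hv0 hg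
  -- the coefficient with `v`
  have key : ∀ w, hermForm 3 F q (act g w) v * θ ^ q = hermForm 3 F q w v := by
    intro w
    rw [mul_comm, ← herm_smul_right, ← hg, herm_act]
  have h1 : hermForm 3 F q (act g e) v = 0 := by
    have := key e
    rw [h.ev] at this
    exact (mul_eq_zero.1 this).resolve_right (pow_ne_zero _ hθ0)
  have h2 : act g e = hermForm 3 F q (act g e) f • v + hermForm 3 F q (act g e) e • e := by
    conv_lhs => rw [h.decomp hF (act g e), h1, zero_smul, add_zero]
  have h3 := h.decomp hF (act g f)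
  have h4 : hermForm 3 F q (act g f) v * θ ^ q = 1 := by rw [key, h.fv]
  have h5 : hermForm 3 F q (act g e) e * hermForm 3 F q (act g e) e ^ q = 1 := by
    have h6 : hermForm 3 F q (act g e) (act g e) = 1 := by rw [herm_act, h.ee]
    set c := hermForm 3 F q (act g e) e
    set d := hermForm 3 F q (act g e) f
    rw [h2] at h6
    simp only [herm_add_left, herm_add_right hF, herm_smul_left, herm_smul_right, h.vv, h.ev, h.ve, h.ee, mul_zero,
      mul_one, add_zero, zero_add] at h6
    rw [mul_comm]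
    exact h6
  set c := hermForm 3 F q (act g e) e
  set d := hermForm 3 F q (act g e) f
  set b := hermForm 3 F q (act g f) f
  set a := hermForm 3 F q (act g f) e
  set t := hermForm 3 F q (act g f) v
  have h6 : mat g * colM v e f = colM v e f * !![θ, d, b; 0, c, a; 0, 0, t] := by
    rw [mul_colM]
    ext i j
    have e1 : mat g *ᵥ v = θ • v := hg
    have e2 : mat g *ᵥ e = d • v + c • e := h2
    have e3 : mat g *ᵥ f = b • v + a • e + t • f := h3
    rw [e1, e2, e3]
    fin_cases j <;> simp [colM, Matrix.mul_apply, Fin.sum_univ_three, mul_comm]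
  obtain ⟨s1, s2, s3⟩ := similar_of (h.det_ne hF) h6
  have h7 : θ * c * t = 1 := by
    rw [det_mat] at s2
    rw [s2]
    simp [Matrix.det_fin_three]
  refine ⟨a, b, c, d, t, h2, h3, h4, h5, h7, ?_, ?_⟩
  · rw [s1]
    simp [Matrix.trace, Fin.sum_univ_three]
  · rw [s3, Matrix.charpoly_of_isUpperTriangular]
    · simp [Fin.prod_univ_three]
    · intro i j hij
      fin_cases i <;> fin_cases j <;> simp_all

end Cfsg.Agent.H357.M9
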