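import Cfsg.Agent.H357.M9.Tr

/-!
# Trace values on elements with an isotropic eigenvector (S3442 M9, helper357)
-/

set_option autoImplicit false
set_option linter.unusedSectionVars false

namespace Cfsg.Agent.H357.M9

open Cfsg Cfsg.Agent.LieClassical.HermBasic Cfsg.Agent.LieClassical.HermSiegel Cfsg.Agent.LieClassical.HermGen Matrix Module

universe v

variable {F : Type v} [Field F] [Fintype F] {q : ℕ} (hF : Fintype.card F = q ^ 2)

include hF in
theorem card_skew : Nat.card (Skew F q) = q := by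
  obtain ⟨μ₀, h0, h1⟩ := exists_trace_zero_ne hF
  refine (Nat.card_congr ?_).trans (card_fixed hF)
  have key : ∀ μ : F, μ + μ ^ q = 0 → (μ * μ₀⁻¹) ^ q = μ * μ₀⁻¹ := by
    intro μ h
    have a1 : μ ^ q = -μ := (neg_eq_of_add_eq_zero_right h).symm
    have a2 : μ₀ ^ q = -μ₀ := (neg_eq_of_add_eq_zero_right h1).symm
    rw [mul_pow, inv_pow, a1, a2, inv_neg, neg_mul_neg]
  refine
    { toFun := fun μ => ⟨μ * μ₀⁻¹, key μ μ.2⟩
      invFun := fun c => ⟨c * μ₀, by rw [mul_pow, c.2, ← mul_add, h1, mul_zero]⟩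
      left_inv := fun μ => Subtype.ext ?_
      right_inv := fun c => Subtype.ext ?_ }
  · show (μ : F) * μ₀⁻¹ * μ₀ = μ
    rw [mul_assoc, inv_mul_cancel₀ h0, mul_one]
  · show (c : F) * μ₀ * μ₀⁻¹ = c
    rw [mul_assoc, mul_inv_cancel₀ h0, mul_one]

variable {k : Type*} [Field k] [CharP k 2] {V : Type*} [AddCommGroup V] [Module k V] (ρ : SU 3 F q →* End k V)
variable (hX : NoFix hF ρ) (ho : Odd q)

include hF hX ho in
/-- a trick -/
theorem tau_eq_zero_of_conj {v : Fin 3 → F} (hv0 : v ≠ 0) (hv : hermForm 3 F q v v = 0) {g : SU 3 F q}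
    (h : ∀ μ, tau ρ (g * xs hF v hv μ) = tau ρ g) : tau ρ g = 0 := by
  classical
  have := Fintype.ofFinite (Skew F q)
  have h1 := sum_tau hF ρ hX hv0 hv g
  simp only [h, Finset.sum_const, Finset.card_univ] at h1
  rw [← Nat.card_eq_fintype_card, card_skew hF, nsmul_eq_mul] at h1
  refine (mul_eq_zero.1 h1).resolve_left fun h2 => ?_
  rw [CharP.cast_eq_zero_iff k 2 q] at h2
  exact (Nat.not_even_iff_odd.2 ho) (even_iff_two_dvd.2 h2)

include hX ho in
/-- the eigenvalue is not in `μ_{q+1}` -/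
theorem tau_of_ne {v : Fin 3 → F} (hv0 : v ≠ 0) (hv : hermForm 3 F q v v = 0) {g : SU 3 F q} {θ : F}
    (hg : act g v = θ • v) (hθ : θ * θ ^ q ≠ 1) : tau ρ g = 0 := by
  have hθ0 : θ ≠ 0 := by
    rintro rfl
    rw [zero_smul, act_eq_zero] at hg
    exact hv0 hg
  refine tau_eq_zero_of_conj hF ρ hX ho hv0 hv fun μ => ?_
  -- `s = (θ θ^q)⁻¹ - 1`
  set N := θ * θ ^ q with hN
  have hN0 : N ≠ 0 := mul_ne_zero hθ0 (pow_ne_zero _ hθ0)
  have hNq : N ^ q = N := norm_pow_q hF θ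
  set s := N⁻¹ - 1 with hs
  have hs0 : s ≠ 0 := by
    intro h
    apply hθ
    rw [hs, sub_eq_zero, inv_eq_one] at h
    exact h
  have hsq : (s⁻¹) ^ q = s⁻¹ := by rw [inv_pow, hs, sub_pow_q hF, inv_pow, hNq, one_pow]
  let η : Skew F q := ⟨s⁻¹ * μ, exists_mul_skew hsq μ⟩
  let η' : Skew F q := ⟨N⁻¹ * η, exists_mul_skew (by rw [inv_pow, hNq]) η⟩
  let ε : Skew F q := ⟨-η, by rw [neg_pow_q hF, ← neg_add, η.2, neg_zero]⟩
  have hgi : act g⁻¹ v = θ⁻¹ • v := by
    have h2 := act_inv_act g v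
    rw [hg, act_smul] at h2
    conv_rhs => rw [← h2]
    rw [smul_smul, inv_mul_cancel₀ hθ0, one_smul]
  have h1 : g⁻¹ * xs hF v hv η * g = xs hF v hv η' := by
    have h2 := conj_xs hF g⁻¹ v hv η
    rw [inv_inv] at h2
    rw [h2]
    have h3 : hermForm 3 F q (θ⁻¹ • v) (θ⁻¹ • v) = 0 := by rw [herm_smul_left, herm_smul_right, hv, mul_zero, mul_zero]
    rw [xs_congr hF hgi _ h3, xs_smul hF v hv θ⁻¹ h3 η η']
    show N⁻¹ * (η : F) = θ⁻¹ * θ⁻¹ ^ q * η
    rw [hN, mul_inv, inv_pow]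
  have h2 : xs hF v hv η * xs hF v hv ε = 1 := by
    rw [xs_mul hF v hv η ε ⟨0, by rw [zero_pow_q hF, add_zero]⟩ (by show (0 : F) = η + -η; ring), xs_eq_one]
    rfl
  have h3 : xs hF v hv η * g * (xs hF v hv η)⁻¹ = g * xs hF v hv μ := by
    rw [inv_eq_of_mul_eq_one_right h2]
    have h4 : xs hF v hv η * g = g * xs hF v hv η' := by rw [← h1]; group
    rw [h4, mul_assoc]
    congr 1
    refine xs_mul hF v hv η' ε μ ?_
    show (μ : F) = N⁻¹ * (s⁻¹ * μ) + -(s⁻¹ * μ)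
    have h5 : N⁻¹ * (s⁻¹ * (μ : F)) + -(s⁻¹ * μ) = (N⁻¹ - 1) * s⁻¹ * μ := by ring
    rw [h5, ← hs, mul_inv_cancel₀ hs0, one_mul]
  rw [← h3, tau_conj]

include hX ho in
/-- **all root elements have the same trace** -/
theorem exists_const : ∃ m : k, ∀ (v : Fin 3 → F) (_ : v ≠ 0) (hv : hermForm 3 F q v v = 0) (μ : Skew F q),
    (μ : F) ≠ 0 → tau ρ (xs hF v hv μ) = m := by
  have key : ∀ (v v' : Fin 3 → F) (_ : v ≠ 0) (_ : v' ≠ 0) (hv : hermForm 3 F q v v = 0) (hv' : hermForm 3 F q v' v' = 0)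
      (μ : Skew F q), tau ρ (xs hF v hv μ) = tau ρ (xs hF v' hv' μ) := by
    intro v v' h0 h0' hv hv' μ
    obtain ⟨g, -, hg⟩ := exists_map_iso hF (le_refl 3) (le_refl 3) (mem_coord v) (mem_coord v') h0 h0' hv hv'
    rw [← tau_conj ρ (xs hF v hv μ) g, conj_xs]
    rw [xs_congr hF hg _ hv']
  by_cases hne : ∃ (v : Fin 3 → F) (_ : v ≠ 0) (hv : hermForm 3 F q v v = 0) (μ : Skew F q), (μ : F) ≠ 0
  · obtain ⟨v, h0, hv, μ, hμ⟩ := hne
    refine ⟨tau ρ (xs hF v hv μ), fun v' h0' hv' μ' hμ' => ?_⟩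
    rw [key v' v h0' h0 hv' hv μ']
    have a1 : (μ : F) ^ q = -μ := (neg_eq_of_add_eq_zero_right μ.2).symm
    have a2 : (μ' : F) ^ q = -μ' := (neg_eq_of_add_eq_zero_right μ'.2).symm
    obtain ⟨c, hc⟩ := exists_norm_eq hF (c := (μ' : F) * (μ : F)⁻¹) (by rw [mul_pow, inv_pow, a1, a2, inv_neg, neg_mul_neg])
    have hc0 : c ≠ 0 := by
      rintro rfl
      rw [zero_mul] at hc
      exact mul_ne_zero hμ' (inv_ne_zero hμ) hc.symm
    have hcv : hermForm 3 F q (c • v) (c • v) = 0 := by rw [herm_smul_left, herm_smul_right, hv, mul_zero, mul_zero]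
    rw [← xs_smul hF v hv c hcv μ μ' (by rw [hc, mul_assoc, inv_mul_cancel₀ hμ, mul_one])]
    exact key _ _ (smul_ne_zero hc0 h0) h0 _ _ μ
  · push Not at hne
    exact ⟨0, fun v h0 hv μ hμ => absurd (hne v h0 hv μ) hμ⟩

include hF hX ho in
theorem tau_one {m : k} (hm : ∀ (v : Fin 3 → F) (_ : v ≠ 0) (hv : hermForm 3 F q v v = 0) (μ : Skew F q),
    (μ : F) ≠ 0 → tau ρ (xs hF v hv μ) = m) : tau ρ 1 = 0 := by
  classical
  have := Fintype.ofFinite (Skew F q)
  obtain ⟨v, v', a, b, -, -, -, hv, -, hvv'⟩ := exists_hyp_pair hF (n := 3) (i := 0) (j := 1) (by decide)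
  have hv0 : v ≠ 0 := by
    rintro rfl
    rw [herm_zero_left] at hvv'
    exact zero_ne_one hvv'
  have h1 := sum_tau hF ρ hX hv0 hv 1
  simp only [one_mul] at h1
  let z : Skew F q := ⟨0, by rw [zero_pow_q hF, add_zero]⟩
  rw [← Finset.add_sum_erase Finset.univ _ (Finset.mem_univ z), xs_eq_one hF v hv (μ := z) rfl,
    Finset.sum_congr rfl (fun μ hμ => hm v hv0 hv μ fun h => (Finset.ne_of_mem_erase hμ) (Subtype.ext h)),
    Finset.sum_const, Finset.card_erase_of_mem (Finset.mem_univ z), Finset.card_univ, ← Nat.card_eq_fintype_card,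
    card_skew hF] at h1
  obtain ⟨j, hj⟩ := ho
  have h2 : q - 1 = j * 2 := by omega
  rw [h2, mul_nsmul, two_nsmul, CharTwo.add_self_eq_zero, add_zero] at h1
  exact h1

/-- the `2`-part can be removed -/
theorem tau_pow {a : ℕ} (ha : q + 1 = 2 ^ a) {g : SU 3 F q} (hg : g ^ (q * (q + 1)) = 1) : tau ρ g = tau ρ (g ^ (q + 1)) := by
  have h1 : ρ g = ρ ((g ^ q)⁻¹) * ρ (g ^ (q + 1)) := by
    rw [← map_mul]
    congr 1
    rw [pow_succ, inv_mul_cancel_left]
  have h2 : (ρ ((g ^ q)⁻¹)) ^ 2 ^ a = 1 := by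
    rw [← map_pow, ← ha, inv_pow, ← pow_mul, hg, inv_one, map_one]
  rw [tau, h1, trace_mul_of_pow _ _ ?_ h2, tau]
  rw [commute_iff_eq, ← map_mul, ← map_mul]
  congr 1
  exact (((Commute.refl g).pow_pow q (q + 1)).inv_left).eq

include hX ho in
/-- unipotent elements which are not root elements -/
theorem tau_siegel {v e f : Fin 3 → F} (hfr : Fr3 q v e f) {a b : F} (ha : a ≠ 0) (h : IsSiegel q v (a • e) b) :
    tau ρ (siegel hF v (a • e) b h) = 0 := by
  have hv0 : v ≠ 0 := by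
    rintro rfl
    have := hfr.vf
    rw [herm_zero_left] at this
    exact zero_ne_one this
  have h2 : (2 : F) ≠ 0 := by
    intro h2
    obtain ⟨p, hp⟩ := CharP.exists F
    obtain ⟨e, hprime, he⟩ := FiniteField.card F p
    have h3 : p ∣ 2 := by
      rw [← CharP.cast_eq_zero_iff F p]
      exact_mod_cast h2
    have h4 : p = 2 := ((Nat.dvd_prime Nat.prime_two).1 h3).resolve_left hprime.one_lt.ne'
    have h5 : 2 ∣ q := Nat.Prime.dvd_of_dvd_pow Nat.prime_two (by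
      rw [← hF, he, h4]
      exact dvd_pow_self 2 e.ne_zero)
    exact (Nat.not_even_iff_odd.2 ho) (even_iff_two_dvd.2 h5)
  refine tau_eq_zero_of_conj hF ρ hX ho hv0 hfr.vv fun μ => ?_
  -- conjugate by `siegel v (s e) ν`, `- a s ^ q = μ / 2`
  obtain ⟨s, hs⟩ : ∃ s : F, -(a * s ^ q) = μ / 2 := by
    refine ⟨(-(μ / 2) * a⁻¹) ^ q, ?_⟩
    rw [pow_q_pow_q hF]
    field_simp
  obtain ⟨ν, hν⟩ := exists_trace_eq hF (c := -(hermForm 3 F q (s • e) (s • e))) (by
    rw [neg_pow_q hF, herm_self_pow hF])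
  have h3 : IsSiegel q v (s • e) ν := ⟨hfr.vv, by rw [herm_smul_left, hfr.ev, mul_zero], by rw [hν, neg_add_cancel]⟩
  have h4 : siegel hF v (s • e) ν h3 * siegel hF v (a • e) b h * (siegel hF v (s • e) ν h3)⁻¹ =
      siegel hF v (a • e) b h * xs hF v hfr.vv μ := by
    rw [mul_inv_eq_iff_eq_mul]
    apply ext_act
    intro w
    have h5 : (μ : F) ^ q = -μ := (neg_eq_of_add_eq_zero_right μ.2).symm
    have h6 : a ^ q * s = μ / 2 := by
      have := congrArg (fun x => x ^ q) hs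
      simp only [neg_pow_q hF, mul_pow, pow_q_pow_q hF, div_pow, h5] at this
      have h7 : (2 : F) ^ q = 2 := by
        have := add_pow_q hF (1 : F) 1
        rw [one_pow, one_add_one_eq_two] at this
        exact this
      rw [h7, neg_div] at this
      exact neg_injective this
    simp only [act_mul, act_siegel, act_xs, herm_add_left, herm_smul_left, herm_smul_right, hfr.vv, hfr.ev, hfr.ve,
      hfr.ee, mul_zero, mul_one, add_zero]
    funext i
    simp only [Pi.add_apply, Pi.smul_apply, smul_eq_mul]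
    have h8 : (μ : F) / 2 + μ / 2 = μ := by field_simp; norm_num
    linear_combination (hermForm 3 F q w v * v i) * hs + (hermForm 3 F q w v * v i) * h6 + (hermForm 3 F q w v * v i) * h8
  rw [← h4, tau_conj]

end Cfsg.Agent.H357.M9
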